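import Mathlib

set_option autoImplicit false

namespace Cfsg.Agent.H10

open scoped commutatorElement

/-- If `x` commutes with `z = ⁅h, x⁆`, `x ^ k = 1`, `z ^ m = 1` and `k`, `m` are coprime, then `h` and `x` commute. -/
theorem commute_of_coprime_of_commute_commutator {G : Type*} [Group G] (x h : G) (k m : ℕ)
    (hx : x ^ k = 1) (hz : ⁅h, x⁆ ^ m = 1) (hcop : Nat.Coprime k m)
    (hcomm : Commute ⁅h, x⁆ x) : Commute h x := by
  have h1 : h * x * h⁻¹ = ⁅h, x⁆ * x := by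
    simp [commutatorElement_def]
  have h2 : (h * x * h⁻¹) ^ k = 1 := by
    rw [conj_pow, hx]; simp
  have h3 : ⁅h, x⁆ ^ k = 1 := by
    rw [h1, hcomm.mul_pow, hx, mul_one] at h2
    exact h2
  have h4 : orderOf ⁅h, x⁆ ∣ Nat.gcd k m :=
    Nat.dvd_gcd (orderOf_dvd_of_pow_eq_one h3) (orderOf_dvd_of_pow_eq_one hz)
  rw [hcop.gcd_eq_one, Nat.dvd_one, orderOf_eq_one_iff] at h4
  exact commutatorElement_eq_one_iff_commute.mp h4

end Cfsg.Agent.H10
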